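import Cfsg.Agent.StdEven.Syl
import Cfsg.Agent.SylowSp4.ExtTransfer
import Cfsg.Agent.StdL3.OneParity
import Cfsg.Agent.FastGrp
import Cfsg.Agent.Prune
set_option linter.all false
prune_inst 0x7f00000000000000000000000000000000000000000000000000000000000000000000000000000000000000000000000000000000000000000000000000000000000000000000000000000000000000003fffffffffffffffffffffffffffbeffbdffffffff
open scoped Cfsg.Agent.FastGrp

/-!
# Transfer lemmas for the end of the wreath pattern (S1739)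
-/

set_option autoImplicit false

namespace Cfsg.Agent.Wreath.DOneTransfer

open Subgroup MulAction
open Cfsg.Agent.StdEven.Syl

/-- The transfer of an involution `w` all of whose conjugates in `P` have the same value. -/
theorem transfer_const {X : Type*} [Group X] [Finite X] {B : Type*} [CommGroup B] (P : Subgroup X) (hodd : Odd P.index)
    (φ : P →* B) {w : X} (hw : w ∈ P) (hww : w * w = 1)
    (hc : ∀ g : X, ∀ hg : g⁻¹ * w * g ∈ P, φ ⟨g⁻¹ * w * g, hg⟩ = φ ⟨w, hw⟩) :
    MonoidHom.transfer φ w = φ ⟨w, hw⟩ := by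
  classical
  have : Fintype (X ⧸ P) := Fintype.ofFinite _
  have hwi : w⁻¹ = w := inv_eq_of_mul_eq_one_right hww
  obtain ⟨f, hf, hprod⟩ := Cfsg.Agent.StdL3.OneParity.transfer_eq_prod_fixed P φ w hww
  have hfix : ∀ g : X, w • ((g : X) : X ⧸ P) = (g : X ⧸ P) ↔ g⁻¹ * w * g ∈ P := by
    intro g
    rw [MulAction.Quotient.smul_mk, smul_eq_mul, QuotientGroup.eq]
    have : (w * g)⁻¹ * g = g⁻¹ * w * g := by rw [mul_inv_rev, hwi]
    rw [this]
  have hval : ∀ q ∈ Finset.univ.filter (fun q : X ⧸ P => w • q = q), f q = φ ⟨w, hw⟩ := by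
    intro q hq
    simp only [Finset.mem_filter, Finset.mem_univ, true_and] at hq
    obtain ⟨g, rfl⟩ := QuotientGroup.mk_surjective q
    have hg := (hfix g).1 hq
    rw [hf _ g rfl hg, hc g hg]
  rw [hprod, Finset.prod_congr rfl hval, Finset.prod_const]
  -- the number of fixed points is odd
  have hZ : IsPGroup 2 (zpowers w) := by
    rintro ⟨x, hx⟩
    obtain ⟨k, rfl⟩ := mem_zpowers_iff.1 hx
    refine ⟨1, Subtype.ext ?_⟩
    show (w ^ k) ^ 2 ^ 1 = 1
    rw [pow_one, pow_two, ← zpow_add, ← two_mul, zpow_mul, show w ^ (2 : ℤ) = 1 by rw [zpow_two, hww], one_zpow]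
  have hmod := hZ.card_modEq_card_fixedPoints (X ⧸ P)
  have hcard : Nat.card (fixedPoints (zpowers w) (X ⧸ P)) =
      (Finset.univ.filter (fun q : X ⧸ P => w • q = q)).card := by
    rw [← Set.ncard_coe_finset]
    show Nat.card _ = Nat.card _
    apply Nat.card_congr
    refine Equiv.setCongr ?_
    ext q
    simp only [mem_fixedPoints, Finset.coe_filter, Finset.mem_univ, true_and, Set.mem_ofPred_eq]
    constructor
    · intro h
      exact h ⟨w, mem_zpowers w⟩
    · rintro h ⟨x, hx⟩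
      obtain ⟨k, rfl⟩ := mem_zpowers_iff.1 hx
      show w ^ k • q = q
      have h1 : w ∈ stabilizer X q := h
      exact zpow_mem h1 k
  rw [hcard] at hmod
  have hodd' : Odd (Finset.univ.filter (fun q : X ⧸ P => w • q = q)).card := by
    rw [Nat.odd_iff]
    have h1 : Nat.card (X ⧸ P) % 2 = 1 := Nat.odd_iff.1 hodd
    rw [← hmod]; exact h1
  obtain ⟨k, hk⟩ := hodd'
  have hφ : φ ⟨w, hw⟩ ^ 2 = 1 := by
    rw [← map_pow]
    have : (⟨w, hw⟩ : P) ^ 2 = 1 := Subtype.ext (by simp [pow_two, hww])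
    rw [this, map_one]
  rw [hk, pow_succ, pow_mul, hφ, one_pow, one_mul]

/-- a homomorphism from a perfect subgroup to an abelian group is trivial -/
theorem map_eq_one {G : Type*} [Group G] {M : Subgroup G} (hM : M ≤ ⁅M, M⁆) {B : Type*} [CommGroup B]
    (f : M →* B) (x : M) : f x = 1 := by
  have h1 : (x : G) ∈ (⁅(⊤ : Subgroup M), (⊤ : Subgroup M)⁆).map M.subtype := by
    rw [map_commutator, ← MonoidHom.range_eq_map, M.range_subtype]
    exact hM x.2
  obtain ⟨y, hy, he⟩ := h1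
  have h2 : y = x := Subtype.ext he
  subst h2
  have h3 : ⁅(⊤ : Subgroup M), (⊤ : Subgroup M)⁆ ≤ f.ker := by
    rw [commutator_le]
    intro a _ b _
    rw [MonoidHom.mem_ker, commutatorElement_def, map_mul, map_mul, map_mul, map_inv, map_inv, mul_comm (f a)]
    group
  exact h3 hy

/-- the image of a commutator of a subgroup under a homomorphism of this subgroup to an abelian group -/
theorem map_comm_eq_one {G : Type*} [Group G] {C : Subgroup G} {B : Type*} [CommGroup B]
    (f : C →* B) {x : G} (hx : x ∈ ⁅C, C⁆) (hxC : x ∈ C) : f ⟨x, hxC⟩ = 1 := by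
  have h1 : x ∈ (⁅(⊤ : Subgroup C), (⊤ : Subgroup C)⁆).map C.subtype := by
    rw [map_commutator, ← MonoidHom.range_eq_map, C.range_subtype]
    exact hx
  obtain ⟨y, hy, he⟩ := h1
  have h2 : y = ⟨x, hxC⟩ := Subtype.ext he
  rw [← h2]
  have h3 : ⁅(⊤ : Subgroup C), (⊤ : Subgroup C)⁆ ≤ f.ker := by
    rw [commutator_le]
    intro a _ b _
    rw [MonoidHom.mem_ker, commutatorElement_def, map_mul, map_mul, map_mul, map_inv, map_inv, mul_comm (f a)]
    group
  exact h3 hy

theorem relIndex_two {G : Type*} [Group G] {T K : Subgroup G} {x : G} (hx : x ∈ K) (hxT : x ∉ T)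
    (h : ∀ g ∈ K, g ∈ T ∨ g * x ∈ T) : T.relIndex K = 2 := by
  rw [relIndex_eq_two_iff]
  refine ⟨x, hx, fun g hg => ?_⟩
  rcases h g hg with h1 | h1
  · exact Or.inr ⟨h1, fun h2 => hxT ((T.mul_mem_cancel_left h1).1 h2)⟩
  · by_cases h2 : g ∈ T
    · exact (hxT ((T.mul_mem_cancel_left h2).1 h1)).elim
    · exact Or.inl ⟨h1, h2⟩

/-- Thompson's transfer lemma (extremal form) in a perfect subgroup `M`. -/
theorem transfer_two {G : Type*} [Group G] [Finite G] {M K T : Subgroup G} (hK : IsSyl K M) (hT : T ≤ K)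
    (h2 : T.relIndex K = 2) (hM : M ≤ ⁅M, M⁆) {y : G} (hy : y ∈ M) (hyy : y * y = 1) {R : Subgroup G}
    (hR : IsPGroup 2 R) (hRM : R ≤ M) (hRy : ∀ r ∈ R, r * y = y * r) :
    ∃ g ∈ M, g * y * g⁻¹ ∈ T ∧ ∀ r ∈ R, g * r * g⁻¹ ∈ K := by
  have hT' : T.subgroupOf M ≤ (hK.toSylow : Subgroup M) := by
    rw [hK.coe_toSylow]
    intro x hx
    exact mem_subgroupOf.2 (hT (mem_subgroupOf.1 hx))
  obtain ⟨g, hg1, hg2⟩ := Cfsg.Agent.SylowSp4.ExtTransfer.exists_extremal hK.toSylow (T.subgroupOf M) hT'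
    (by rw [hK.coe_toSylow, relIndex_subgroupOf hK.le]; exact h2) (⟨y, hy⟩ : M) (Subtype.ext hyy)
    (fun f => map_eq_one hM f _) (R.subgroupOf M) hR.comap_subtype
    (fun r hr => Subtype.ext (hRy r (mem_subgroupOf.1 hr)))
  refine ⟨g, g.2, mem_subgroupOf.1 hg1, fun r hr => ?_⟩
  have h1 := hg2 ⟨r, hRM hr⟩ (mem_subgroupOf.2 hr)
  rw [← SetLike.mem_coe] at h1
  have h3 : (g * ⟨r, hRM hr⟩ * g⁻¹ : M) ∈ K.subgroupOf M := by
    rw [← hK.coe_toSylow]; exact h1
  exact mem_subgroupOf.1 h3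

/-- index at most two -/
theorem card_le_two {G : Type*} [Group G] [Finite G] {L K : Subgroup G}
    (h : ∀ x ∈ L, ∀ y ∈ L, x ∉ K → y ∉ K → x * y ∈ K) : Nat.card L ≤ 2 * Nat.card (L ⊓ K : Subgroup G) := by
  classical
  by_cases hL : L ≤ K
  · rw [inf_eq_left.2 hL]; omega
  · obtain ⟨r, hr, hrK⟩ := SetLike.not_le_iff_exists.1 hL
    have h1 : (L : Set G) ⊆ ((L ⊓ K : Subgroup G) : Set G) ∪ (fun k => k * r⁻¹) '' ((L ⊓ K : Subgroup G) : Set G) := by
      intro x hx
      by_cases hxK : x ∈ K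
      · exact Or.inl ⟨hx, hxK⟩
      · exact Or.inr ⟨x * r, ⟨mul_mem hx hr, h x hx r hr hxK hrK⟩, by simp⟩
    have h2 := (Set.ncard_le_ncard h1 (Set.toFinite _)).trans (Set.ncard_union_le _ _)
    rw [Set.ncard_image_of_injective _ (mul_left_injective _)] at h2
    have h3 : (L : Set G).ncard = Nat.card L := rfl
    have h4 : ((L ⊓ K : Subgroup G) : Set G).ncard = Nat.card (L ⊓ K : Subgroup G) := rfl
    omega

/-- a proper subgroup has index at least two -/
theorem two_card_le {G : Type*} [Group G] [Finite G] {L K : Subgroup G} (h : K ≤ L) {r : G} (hr : r ∈ L)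
    (hrK : r ∉ K) : 2 * Nat.card K ≤ Nat.card L := by
  have h1 := Subgroup.card_dvd_of_le h
  obtain ⟨m, hm⟩ := h1
  have h2 : 0 < Nat.card K := Nat.card_pos
  have h3 : 0 < Nat.card L := Nat.card_pos
  have h4 : m ≠ 0 := by rintro rfl; omega
  have h5 : m ≠ 1 := by
    rintro rfl
    have : K = L := Subgroup.eq_of_le_of_card_ge h (by omega)
    exact hrK (this ▸ hr)
  have h6 : 2 ≤ m := by omega
  calc 2 * Nat.card K ≤ m * Nat.card K := Nat.mul_le_mul_right _ h6
    _ = Nat.card L := by rw [hm, mul_comm]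

/-- a subgroup of order dividing `2 ^ n` whose commutator subgroup contains a nontrivial element has order at least 8 -/
theorem eight_le {G : Type*} [Group G] [Finite G] {K : Subgroup G} (hK : IsPGroup 2 K) {u : G} (hu : u ≠ 1)
    (h : u ∈ ⁅K, K⁆) : 8 ≤ Nat.card K := by
  obtain ⟨n, hn⟩ := IsPGroup.iff_card.1 hK
  have hcomm : (∀ a b : K, a * b = b * a) → False := by
    intro hc
    apply hu
    have h1 : ⁅K, K⁆ ≤ ⊥ := by
      rw [commutator_le]
      intro a ha b hb
      have h2 := congrArg Subtype.val (hc ⟨a, ha⟩ ⟨b, hb⟩)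
      have h3 : a * b = b * a := h2
      rw [mem_bot, commutatorElement_def, h3]; group
    exact mem_bot.1 (h1 h)
  by_contra hlt
  have h3 : n < 3 := by
    by_contra h4
    push Not at h4
    have h5 : 2 ^ 3 ≤ 2 ^ n := Nat.pow_le_pow_right (by norm_num) h4
    omega
  interval_cases n
  · apply hcomm
    have h1 : Subsingleton K := (Nat.card_eq_one_iff_unique.1 hn).1
    exact fun a b => Subsingleton.elim _ _
  · apply hcomm
    have : Fact (Nat.Prime 2) := ⟨Nat.prime_two⟩
    have : IsCyclic K := isCyclic_of_prime_card (p := 2) (by rw [hn]; norm_num)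
    let := IsCyclic.commGroup (α := K)
    exact fun a b => mul_comm a b
  · have : Fact (Nat.Prime 2) := ⟨Nat.prime_two⟩
    exact hcomm (IsPGroup.commutative_of_card_eq_prime_sq (p := 2) hn)

end Cfsg.Agent.Wreath.DOneTransfer
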